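import Mathlib

/-!
The number of Sylow subgroups of a group with a normal subgroup.
-/

set_option autoImplicit false

namespace Cfsg.Agent.SylowNumber

open Subgroup
open scoped Pointwise

variable {G : Type*} [Group G] [Finite G] {p : ℕ} [Fact p.Prime]

/-- `[AK : A] = [K : A ∩ K]` for a normal subgroup `K`. -/
theorem relIndex_sup_normal (A K : Subgroup G) [K.Normal] : A.relIndex (A ⊔ K) = A.relIndex K := by
  have e1 : Nat.card (A ⊓ K : Subgroup G) * (A ⊓ K).relIndex A = Nat.card A := by
    rw [← relIndex_bot_left, ← relIndex_bot_left]; exact relIndex_mul_relIndex _ _ _ bot_le inf_le_left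
  have e2 : Nat.card (A ⊓ K : Subgroup G) * (A ⊓ K).relIndex K = Nat.card K := by
    rw [← relIndex_bot_left, ← relIndex_bot_left]; exact relIndex_mul_relIndex _ _ _ bot_le inf_le_right
  have e3 : Nat.card A * A.relIndex (A ⊔ K) = Nat.card (A ⊔ K : Subgroup G) := by
    rw [← relIndex_bot_left, ← relIndex_bot_left]; exact relIndex_mul_relIndex _ _ _ bot_le le_sup_left
  have e4 : Nat.card K * K.relIndex A = Nat.card (A ⊔ K : Subgroup G) := by
    rw [← relIndex_sup_right (H := A) (K := K), ← relIndex_bot_left, ← relIndex_bot_left]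
    exact relIndex_mul_relIndex _ _ _ bot_le le_sup_right
  rw [inf_relIndex_right] at e2
  rw [inf_relIndex_left] at e1
  rw [← e3, ← e1, ← e2] at e4
  have h0 : Nat.card (A ⊓ K : Subgroup G) * K.relIndex A ≠ 0 :=
    mul_ne_zero Nat.card_pos.ne' (fun h => (Nat.card_pos (α := A)).ne' (by rw [← e1, h, mul_zero]))
  refine Nat.eq_of_mul_eq_mul_left (Nat.pos_of_ne_zero h0) ?_
  rw [← e4]; ring

/-- The normaliser of `PK` is `N(P) K`. -/
theorem normalizer_sup (P : Sylow p G) (K : Subgroup G) [K.Normal] :
    normalizer (((P : Subgroup G) ⊔ K : Subgroup G) : Set G) =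
      normalizer ((P : Subgroup G) : Set G) ⊔ K := by
  refine le_antisymm (fun g hg => ?_) (sup_le (fun g hg => ?_) (le_sup_right.trans le_normalizer))
  · have hle : ((g • P : Sylow p G) : Subgroup G) ≤ (P : Subgroup G) ⊔ K := by
      intro x hx
      rw [Sylow.coe_subgroup_smul, Subgroup.mem_pointwise_smul_iff_inv_smul_mem] at hx
      have h := (mem_normalizer_iff.mp hg _).mp (mem_sup_left hx)
      simpa [MulAut.smul_def, mul_assoc] using h
    obtain ⟨h, hh⟩ := MulAction.exists_smul_eq (↥((P : Subgroup G) ⊔ K)) ((g • P : Sylow p G).subtype hle) (P.subtype le_sup_left)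
    rw [Sylow.smul_subtype] at hh
    have h2 := Sylow.subtype_injective hh
    have h3 : ((h : G) * g) • P = P := by rw [mul_smul]; exact h2
    have h4 := Sylow.smul_eq_iff_mem_normalizer.mp h3
    have h5 : (h : G) ∈ normalizer ((P : Subgroup G) : Set G) ⊔ K :=
      sup_le_sup_right le_normalizer K h.2
    simpa using mul_mem (inv_mem h5) (mem_sup_left h4)
  · rw [mem_normalizer_iff_map_conj_eq] at hg ⊢
    rw [Subgroup.map_sup, hg, mem_normalizer_iff_map_conj_eq.mp (le_normalizer_of_normal (K := ⊤) (H := K) (mem_top g))]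

/-- A Sylow subgroup meets a normal subgroup in a Sylow subgroup. -/
theorem exists_sylow_inf (P : Sylow p G) (K : Subgroup G) [K.Normal] :
    ∃ R : Sylow p K, (R : Subgroup K) = ((P : Subgroup G) ⊓ K).subgroupOf K := by
  have hp : IsPGroup p (((P : Subgroup G) ⊓ K).subgroupOf K) :=
    (P.2.to_le inf_le_left).comap_of_injective K.subtype K.subtype_injective
  have hidx : ¬ p ∣ (((P : Subgroup G) ⊓ K).subgroupOf K).index := by
    show ¬ p ∣ ((P : Subgroup G) ⊓ K).relIndex K
    rw [inf_relIndex_right, ← relIndex_sup_normal]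
    intro h
    exact P.not_dvd_index (h.trans (relIndex_mul_index (le_sup_left (a := (P : Subgroup G)) (b := K)) ▸ dvd_mul_right _ _))
  exact ⟨hp.toSylow hidx, rfl⟩

theorem card_sylow_subgroup (P : Sylow p G) (K : Subgroup G) [K.Normal] :
    Nat.card (Sylow p K) = (normalizer (((P : Subgroup G) ⊓ K : Subgroup G) : Set G)).relIndex K := by
  obtain ⟨R, hR⟩ := exists_sylow_inf P K
  rw [R.card_eq_index_normalizer]
  show (normalizer ((R : Subgroup K) : Set K)).index = _
  rw [hR, ← subgroupOf_normalizer_eq inf_le_right]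
  rfl

theorem card_sylow_quotient (P : Sylow p G) (K : Subgroup G) [K.Normal] :
    Nat.card (Sylow p (G ⧸ K)) = (normalizer ((P : Subgroup G) : Set G) ⊔ K).index := by
  rw [(P.mapSurjective (QuotientGroup.mk'_surjective K)).card_eq_index_normalizer]
  show (normalizer (((P.mapSurjective (QuotientGroup.mk'_surjective K) : Sylow p (G ⧸ K)) : Subgroup (G ⧸ K)) : Set (G ⧸ K))).index = _
  rw [← index_comap_of_surjective (f := QuotientGroup.mk' K) _ (QuotientGroup.mk'_surjective K), Sylow.coe_mapSurjective,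
    comap_normalizer_eq_of_surjective _ (QuotientGroup.mk'_surjective K), comap_map_eq,
    QuotientGroup.ker_mk', normalizer_sup]

/-- `n_p(G) = n_p(G/K) [K : N_K(P)]`. -/
theorem card_sylow_eq_mul (P : Sylow p G) (K : Subgroup G) [K.Normal] :
    Nat.card (Sylow p G) =
      Nat.card (Sylow p (G ⧸ K)) * (normalizer ((P : Subgroup G) : Set G)).relIndex K := by
  rw [card_sylow_quotient P K, P.card_eq_index_normalizer, mul_comm, ← relIndex_sup_normal]
  exact (relIndex_mul_index le_sup_left).symm

/-- The Sylow subgroup counted inside `PK`. -/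
theorem relIndex_normalizer_split (P : Sylow p G) (K : Subgroup G) [K.Normal] {N : Subgroup G}
    (hN : N = ((P : Subgroup G) ⊔ K) ⊓ normalizer (((P : Subgroup G) ⊓ K : Subgroup G) : Set G)) :
    (normalizer ((P : Subgroup G) : Set G)).relIndex K =
      Nat.card (Sylow p K) * (normalizer ((P : Subgroup G) : Set G)).relIndex N := by
  set NP := normalizer ((P : Subgroup G) : Set G)
  set NQ := normalizer (((P : Subgroup G) ⊓ K : Subgroup G) : Set G)
  have hNN : NP ≤ NQ := by
    refine le_trans (le_inf le_rfl le_normalizer_of_normal) inf_normalizer_le_normalizer_inf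
  have hPK : ∀ A : Subgroup G, (P : Subgroup G) ≤ A →
      A.relIndex ((P : Subgroup G) ⊔ K) = A.relIndex K := by
    intro A hA
    have h1 : (A ⊓ ((P : Subgroup G) ⊔ K)) ⊔ K = (P : Subgroup G) ⊔ K :=
      le_antisymm (sup_le inf_le_right le_sup_right) (sup_le_sup_right (le_inf hA le_sup_left) K)
    have h2 := relIndex_sup_normal (A ⊓ ((P : Subgroup G) ⊔ K)) K
    rw [h1, inf_relIndex_right] at h2
    rw [h2, ← inf_relIndex_right (H := A ⊓ _) (K := K), inf_assoc,
      inf_eq_right.mpr (le_sup_right : K ≤ (P : Subgroup G) ⊔ K), inf_relIndex_right]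
  rw [card_sylow_subgroup P K, ← hPK NP le_normalizer,
    ← hPK NQ (le_trans le_normalizer hNN), ← inf_relIndex_right (H := NP),
    ← inf_relIndex_right (H := NQ), inf_comm NQ, ← hN]
  rw [← relIndex_mul_relIndex (NP ⊓ ((P : Subgroup G) ⊔ K)) N ((P : Subgroup G) ⊔ K)
    (hN ▸ le_inf inf_le_right (inf_le_left.trans hNN)) (hN ▸ inf_le_left), mul_comm]
  congr 1
  rw [← inf_relIndex_right (H := NP ⊓ _) (K := N), inf_assoc,
    inf_eq_right.mpr (hN ▸ inf_le_left : N ≤ (P : Subgroup G) ⊔ K), inf_relIndex_right]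

/-- Sylow subgroups of a section containing a Sylow subgroup. -/
theorem card_sylow_section (P : Sylow p G) {N Q : Subgroup G} (hPN : (P : Subgroup G) ≤ N)
    (hQP : Q ≤ (P : Subgroup G)) [(Q.subgroupOf N).Normal] :
    Nat.card (Sylow p (N ⧸ Q.subgroupOf N)) = (normalizer ((P : Subgroup G) : Set G)).relIndex N := by
  rw [((P.subtype hPN).mapSurjective (QuotientGroup.mk'_surjective (Q.subgroupOf N))).card_eq_index_normalizer]
  show (normalizer ((((P.subtype hPN).mapSurjective (QuotientGroup.mk'_surjective _) :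
    Sylow p (N ⧸ Q.subgroupOf N)) : Subgroup (N ⧸ Q.subgroupOf N)) : Set (N ⧸ Q.subgroupOf N))).index = _
  rw [← index_comap_of_surjective (f := QuotientGroup.mk' (Q.subgroupOf N)) _
      (QuotientGroup.mk'_surjective _), Sylow.coe_mapSurjective,
    comap_normalizer_eq_of_surjective _ (QuotientGroup.mk'_surjective _), comap_map_eq,
    QuotientGroup.ker_mk', Sylow.coe_subtype,
    sup_eq_left.mpr (show Q.subgroupOf N ≤ (P : Subgroup G).subgroupOf N from
      fun x hx => mem_subgroupOf.mpr (hQP (mem_subgroupOf.mp hx))),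
    ← subgroupOf_normalizer_eq hPN]
  rfl

end Cfsg.Agent.SylowNumber
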