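import Mathlib
import Cfsg.Agent.SylowNumber.Formula
import Cfsg.Agent.Coprime.Elementary

/-!
P. Hall's theorem on the factors of the number of Sylow subgroups.
-/

set_option autoImplicit false

namespace Cfsg.Agent.SylowNumber

open Subgroup
open scoped Pointwise

universe u

variable {G : Type u} [Group G] [Finite G] {p : ℕ} [Fact p.Prime]

/-- A `p`-group normalising a subgroup fixes, modulo `p`, as many points as it has. -/
theorem card_modEq_inf_centralizer {P L : Subgroup G} (hP : IsPGroup p P)
    (hPL : P ≤ normalizer (L : Set G)) :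
    Nat.card L ≡ Nat.card (L ⊓ centralizer (P : Set G) : Subgroup G) [MOD p] := by
  letI : MulAction P L :=
    { smul := fun x l => ⟨x * l * (x : G)⁻¹, (mem_normalizer_iff.mp (hPL x.2) l).mp l.2⟩
      one_smul := fun l => Subtype.ext (by
        show ((1 : P) : G) * l * ((1 : P) : G)⁻¹ = l
        simp)
      mul_smul := fun x y l => Subtype.ext (by
        show ((x * y : P) : G) * l * ((x * y : P) : G)⁻¹ = x * (y * l * (y : G)⁻¹) * (x : G)⁻¹
        simp [mul_assoc]) }
  refine (hP.card_modEq_card_fixedPoints L).trans (congrArg (· % p) ?_)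
  refine Nat.card_congr
    { toFun := fun l => ⟨l.1.1, l.1.2, mem_centralizer_iff.mpr fun x hx => ?_⟩
      invFun := fun l => ⟨⟨l.1, l.2.1⟩, fun x => Subtype.ext ?_⟩
      left_inv := fun l => rfl
      right_inv := fun l => rfl }
  · have := congrArg Subtype.val (l.2 ⟨x, hx⟩)
    exact mul_inv_eq_iff_eq_mul.mp this
  · exact mul_inv_eq_iff_eq_mul.mpr (mem_centralizer_iff.mp l.2.2 x x.2)

/-- The base case: a `p`-group acting on a group of order prime to `p`. -/
theorem ordProj_relIndex_modEq {P K : Subgroup G} (hP : IsPGroup p P)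
    (hPK : P ≤ normalizer (K : Set G)) (hcop : (Nat.card P).Coprime (Nat.card K))
    (hpK : ¬ p ∣ Nat.card K) (r : ℕ) [Fact r.Prime] :
    r ^ ((centralizer (P : Set G)).relIndex K).factorization r ≡ 1 [MOD p] := by
  have := hP.isNilpotent
  have hsolv : Group.IsSolvable P ∨ Group.IsSolvable K := Or.inl inferInstance
  obtain ⟨L, hL⟩ := Coprime.exists_invariant_sylow hPK hcop hsolv (p := r)
  set C := K ⊓ centralizer (P : Set G) with hC
  have hmul : Nat.card C * (centralizer (P : Set G)).relIndex K = Nat.card K := by
    rw [hC, ← inf_relIndex_right (H := centralizer (P : Set G)), inf_comm K, ← relIndex_bot_left,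
      ← relIndex_bot_left]
    exact relIndex_mul_relIndex _ _ _ bot_le inf_le_right
  have hv : (Nat.card K).factorization r =
      (Nat.card C).factorization r + ((centralizer (P : Set G)).relIndex K).factorization r := by
    rw [← hmul, Nat.factorization_mul Nat.card_pos.ne' (fun h => (Nat.card_pos (α := K)).ne' (by rw [← hmul, h, mul_zero]))]
    rfl
  rcases eq_or_ne r p with rfl | hne
  · rw [Nat.factorization_eq_zero_of_not_dvd (fun h => hpK (h.trans (hmul ▸ dvd_mul_left _ _))), pow_zero]
  have h := card_modEq_inf_centralizer hP hL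
  rw [Coprime.card_sylow_inf_centralizer hPK hcop hsolv L hL, Coprime.card_sylow_map, hv, pow_add,
    ← hC] at h
  refine Nat.ModEq.cancel_left_of_coprime (c := r ^ (Nat.card C).factorization r) ?_
    (h.trans (congrArg (· % p) (mul_one _).symm))
  exact Nat.Coprime.pow_right _ ((Nat.coprime_primes Fact.out Fact.out).mpr hne.symm)

/-- Induction principle for the number of Sylow subgroups (P. Hall). -/
theorem sylow_number_induction (motive : ℕ → Prop) (good : ∀ (H : Type u) [Group H], Prop)
    (hone : motive 1) (hmul : ∀ a b, motive a → motive b → motive (a * b))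
    (hpow : ∀ r k : ℕ, r.Prime → 0 < k → r ^ k ≡ 1 [MOD p] → motive (r ^ k))
    (hsub : ∀ (H : Type u) [Group H] (S : Subgroup H), good H → good S)
    (hquot : ∀ (H : Type u) [Group H] (S : Subgroup H) [S.Normal], good H → good (H ⧸ S))
    (hsimple : ∀ (H : Type u) [Group H] [Finite H], IsSimpleGroup H → good H → motive (Nat.card (Sylow p H))) :
    ∀ (H : Type u) [Group H] [Finite H], good H → motive (Nat.card (Sylow p H)) := by
  intro H hH1 hH2
  induction hn : Nat.card H using Nat.strong_induction_on generalizing H with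
  | _ n ih =>
    intro hgood
    subst hn
    rcases subsingleton_or_nontrivial H with hs | hnt
    · have : Nat.card (Sylow p H) = 1 := by
        rw [(default : Sylow p H).card_eq_index_normalizer, Subsingleton.elim (normalizer _) ⊤, index_top]
      rwa [this]
    by_cases hsi : IsSimpleGroup H
    · exact hsimple H hsi hgood
    obtain ⟨K, hKn, hKb, hKt⟩ : ∃ K : Subgroup H, K.Normal ∧ K ≠ ⊥ ∧ K ≠ ⊤ := by
      by_contra hcon
      push Not at hcon
      exact hsi ⟨fun K hK => or_iff_not_imp_left.mpr (hcon K hK)⟩
    let P : Sylow p H := default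
    set N := ((P : Subgroup H) ⊔ K) ⊓ normalizer (((P : Subgroup H) ⊓ K : Subgroup H) : Set H) with hN
    have hcard := Subgroup.card_eq_card_quotient_mul_card_subgroup K
    have h1 : 1 < Nat.card K := Subgroup.one_lt_card_iff_ne_bot _ |>.mpr hKb
    have hq1 : Nat.card (H ⧸ K) < Nat.card H := by
      rw [hcard]; exact lt_mul_of_one_lt_right Nat.card_pos h1
    have hk1 : Nat.card K < Nat.card H :=
      lt_of_le_of_ne (card_le_card_group K) fun e => hKt (eq_top_of_card_eq K e)
    have mK := ih _ hk1 K rfl (hsub H K hgood)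
    have mQ := ih _ hq1 (H ⧸ K) rfl (hquot H K hgood)
    have hQN : (((P : Subgroup H) ⊓ K).subgroupOf N).Normal :=
      (normal_subgroupOf_iff_le_normalizer (le_inf (inf_le_of_left_le le_sup_left) le_normalizer)).mpr inf_le_right
    by_cases hbase : (P : Subgroup H) ⊓ K = ⊥ ∧ N = ⊤
    · obtain ⟨hQ, hNt⟩ := hbase
      have htop : (P : Subgroup H) ⊔ K = ⊤ := top_le_iff.mp (hNt.ge.trans inf_le_left)
      have hpK : ¬ p ∣ Nat.card K := by
        intro h
        obtain ⟨R, hR⟩ := exists_sylow_inf P K
        have := R.ne_bot_of_dvd_card h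
        rw [hR, hQ, bot_subgroupOf] at this
        exact this rfl
      have hcop : (Nat.card (P : Subgroup H)).Coprime (Nat.card K) := by
        obtain ⟨k, hk⟩ := IsPGroup.iff_card.mp P.2
        rw [hk]
        exact ((Fact.out : p.Prime).coprime_iff_not_dvd.mpr hpK).pow_left k
      have hPK : (P : Subgroup H) ≤ normalizer (K : Set H) := le_normalizer_of_normal
      have hnc : normalizer ((P : Subgroup H) : Set H) ⊓ K = centralizer ((P : Subgroup H) : Set H) ⊓ K := by
        refine le_antisymm (fun k hk => ⟨mem_centralizer_iff.mpr fun x (hx : x ∈ (P : Subgroup H)) => ?_, hk.2⟩)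
          (inf_le_inf_right _ (centralizer_le_normalizer _))
        have h2 : k * x * k⁻¹ * x⁻¹ ∈ (P : Subgroup H) ⊓ K := by
          refine ⟨Subgroup.mul_mem _ ((mem_normalizer_iff.mp hk.1 x).mp hx) (Subgroup.inv_mem _ hx), ?_⟩
          rw [mul_assoc, mul_assoc, ← mul_assoc x]
          exact mul_mem hk.2 (hKn.conj_mem _ (inv_mem hk.2) x)
        rw [hQ, mem_bot, mul_inv_eq_one, mul_inv_eq_iff_eq_mul] at h2
        exact h2.symm
      have hnum : Nat.card (Sylow p H) = (centralizer ((P : Subgroup H) : Set H)).relIndex K := by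
        rw [card_sylow_eq_mul P K, card_sylow_quotient P K,
          top_le_iff.mp (htop.ge.trans (sup_le_sup_right le_normalizer K)), index_top, one_mul,
          ← inf_relIndex_right, hnc, inf_relIndex_right]
      rw [hnum]
      set c := (centralizer ((P : Subgroup H) : Set H)).relIndex K
      have hc0 : c ≠ 0 := hnum ▸ Nat.card_pos.ne'
      rw [← Nat.prod_factorization_pow_eq_self hc0, Finsupp.prod]
      refine Finset.prod_induction _ motive hmul hone fun r hr => ?_
      have hr' : r.Prime := Nat.prime_of_mem_primeFactors (Nat.support_factorization c ▸ hr)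
      have := Fact.mk hr'
      exact hpow r _ hr' (Nat.pos_of_ne_zero (Finsupp.mem_support_iff.mp hr))
        (ordProj_relIndex_modEq P.2 hPK hcop hpK r)
    · have hn1 : Nat.card (N ⧸ ((P : Subgroup H) ⊓ K).subgroupOf N) < Nat.card H := by
        have h2 := Subgroup.card_eq_card_quotient_mul_card_subgroup (((P : Subgroup H) ⊓ K).subgroupOf N)
        rcases not_and_or.mp hbase with hQ | hNt
        · have h3 : 1 < Nat.card (((P : Subgroup H) ⊓ K).subgroupOf N) := by
            rw [Subgroup.one_lt_card_iff_ne_bot, Ne, subgroupOf_eq_bot, disjoint_iff,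
              inf_eq_left.mpr (le_inf (inf_le_of_left_le le_sup_left) le_normalizer)]
            exact hQ
          refine lt_of_lt_of_le ?_ (card_le_card_group N)
          rw [h2]; exact lt_mul_of_one_lt_right Nat.card_pos h3
        · refine lt_of_le_of_lt ?_ (lt_of_le_of_ne (card_le_card_group N) fun e => hNt (eq_top_of_card_eq N e))
          rw [h2]; exact Nat.le_mul_of_pos_right _ Nat.card_pos
      have mN := ih _ hn1 _ rfl (hquot N (((P : Subgroup H) ⊓ K).subgroupOf N) (hsub H N hgood))
      rw [card_sylow_eq_mul P K, relIndex_normalizer_split P K hN]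
      refine hmul _ _ mQ (hmul _ _ mK ?_)
      have hPN : (P : Subgroup H) ≤ N := le_inf le_sup_left
        (le_normalizer.trans ((le_inf le_rfl le_normalizer_of_normal).trans inf_normalizer_le_normalizer_inf))
      rw [← card_sylow_section P hPN (inf_le_left : (P : Subgroup H) ⊓ K ≤ _)]
      exact mN

end Cfsg.Agent.SylowNumber
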